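import Cfsg.Agent.H333.S3530.Cyc
import Cfsg.Agent.H299.S3530.Abs
import Cfsg.Agent.ClassicalGeometry.PSL2ElemOrder
import Cfsg.Agent.ClassicalGeometry.PSL2Solvable
import Cfsg.Agent.H347.S3530.PslBasics

/-!
# S3530: the action of `PSL(2,u)` and its automorphisms on the Sylow subgroups of the characteristic (helper333)
-/

set_option autoImplicit false
set_option linter.unusedSectionVars false

namespace Cfsg.Agent.H333.S3530

open Subgroup
open Cfsg.Agent.H389.JSq (Has)
open Cfsg.Agent.H389.RSq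
open Cfsg.Agent.H381.Tools
open Cfsg.Agent.OddOrderLocal.HallPi
open Cfsg.Agent.ClassicalGeometry

universe u

section L

variable {s e : ℕ} {L : Type u} [Group L] [Finite L]

/-- the Sylow subgroups of the characteristic are TI -/
theorem sylow_ti (h : H389.RSq.IsPSL s e L) [Fact s.Prime] (P Q : Sylow s L) (x : L) (hx : x ≠ 1)
    (hP : x ∈ (P : Subgroup L)) (hQ : x ∈ (Q : Subgroup L)) : P = Q := by
  obtain ⟨hs, F, _, _, hF, ⟨φ⟩⟩ := h
  have hc : CharP F s := by
    obtain ⟨p, hp⟩ := CharP.exists F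
    obtain ⟨n, hp', hn⟩ := FiniteField.card F p
    have h1 : p ∣ s ^ e := by
      rw [← hF, hn]
      exact dvd_pow_self p n.2.ne'
    rwa [(Nat.prime_dvd_prime_iff_eq hp' hs).mp (hp'.dvd_of_dvd_pow h1)] at hp
  have hsurj : Function.Surjective φ.toMonoidHom := φ.surjective
  have h1 := PSL2ElemOrder.sylow_eq_of_mem s (P.mapSurjective hsurj) (Q.mapSurjective hsurj) (φ x)
    (fun h0 => hx (φ.injective (by rw [h0, map_one]))) ⟨x, hP, rfl⟩ ⟨x, hQ, rfl⟩
  have h2 : (P : Subgroup L).map φ.toMonoidHom = (Q : Subgroup L).map φ.toMonoidHom := by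
    have h3 := congrArg Sylow.toSubgroup h1
    rwa [Sylow.coe_mapSurjective, Sylow.coe_mapSurjective] at h3
  exact Sylow.ext (Subgroup.map_injective (f := φ.toMonoidHom) φ.injective h2)

/-- the order -/
theorem card_eq (h : H389.RSq.IsPSL s e L) : ∃ d, d * Nat.card L = s ^ e * (s ^ e - 1) * (s ^ e + 1) ∧ s.Coprime d ∧ 0 < d ∧ d ≤ 2 := by
  by_cases hs : s = 2
  · exact ⟨1, by rw [one_mul, h.card_even hs], Nat.coprime_one_right _, by norm_num, by norm_num⟩
  · exact ⟨2, h.card_odd hs, (Nat.coprime_primes h.1 Nat.prime_two).mpr hs, by norm_num, le_rfl⟩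

theorem dvd_u (h : H389.RSq.IsPSL s e L) (h4 : 4 ≤ s ^ e) : s ∣ s ^ e := by
  refine dvd_pow_self s ?_
  rintro rfl
  rw [pow_zero] at h4
  omega

theorem coprime_pm (h : H389.RSq.IsPSL s e L) (h4 : 4 ≤ s ^ e) : s.Coprime ((s ^ e - 1) * (s ^ e + 1)) := by
  have hs := h.1
  have h1 := dvd_u h h4
  rw [Nat.Prime.coprime_iff_not_dvd hs]
  intro h2
  rcases hs.dvd_mul.mp h2 with h3 | h3
  · have h5 := Nat.dvd_sub h1 h3
    rw [Nat.sub_sub_self (by omega)] at h5
    exact hs.one_lt.ne' (Nat.dvd_one.mp h5)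
  · have h5 := (Nat.dvd_add_right h1).mp h3
    exact hs.one_lt.ne' (Nat.dvd_one.mp h5)

theorem card_sylow_u (h : H389.RSq.IsPSL s e L) [Fact s.Prime] (h4 : 4 ≤ s ^ e) (P : Sylow s L) :
    Nat.card (P : Subgroup L) = s ^ e := by
  have hs := h.1
  obtain ⟨d, hd, hcd, -, -⟩ := card_eq h
  have h1 := coprime_pm h h4
  have h2 := (P : Subgroup L).card_mul_index
  have h3 : ¬ s ∣ (P : Subgroup L).index := P.not_dvd_index
  obtain ⟨m, hm⟩ := IsPGroup.iff_card.1 P.2
  rw [← h2] at hd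
  apply Nat.dvd_antisymm
  · have h5 : Nat.card (P : Subgroup L) ∣ s ^ e * ((s ^ e - 1) * (s ^ e + 1)) := by
      rw [← mul_assoc, ← hd]
      exact Dvd.intro _ (by ring : Nat.card (P : Subgroup L) * (d * (P : Subgroup L).index) = _)
    refine Nat.Coprime.dvd_of_dvd_mul_right ?_ h5
    rw [hm]
    exact h1.pow_left m
  · have h5 : s ^ e ∣ Nat.card (P : Subgroup L) * (d * (P : Subgroup L).index) := by
      have : Nat.card (P : Subgroup L) * (d * (P : Subgroup L).index) = s ^ e * ((s ^ e - 1) * (s ^ e + 1)) := by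
        rw [← mul_assoc (s ^ e), ← hd]; ring
      rw [this]
      exact Dvd.intro _ rfl
    refine Nat.Coprime.dvd_of_dvd_mul_right ?_ h5
    exact (hcd.mul_right ((Nat.Prime.coprime_iff_not_dvd hs).2 h3)).pow_left e

theorem psl_simple (h : H389.RSq.IsPSL s e L) (h4 : 4 ≤ s ^ e) : IsSimpleGroup L := by
  obtain ⟨-, F, i1, i2, hF, ⟨φ⟩⟩ := h
  have h1 : IsSimpleGroup (Matrix.ProjectiveSpecialLinearGroup (Fin 2) F) :=
    Matrix.ProjectiveSpecialLinearGroup.rank_two_simple (by rw [Nat.card_eq_fintype_card, hF]; exact h4)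
  exact φ.isSimpleGroup

/-- the number of Sylow subgroups -/
theorem number_sylow (h : H389.RSq.IsPSL s e L) [Fact s.Prime] (h4 : 4 ≤ s ^ e) : Nat.card (Sylow s L) = s ^ e + 1 := by
  have hs := psl_simple h h4
  obtain ⟨d, hd, -, hd0, hd2⟩ := card_eq h
  obtain ⟨P⟩ : Nonempty (Sylow s L) := inferInstance
  obtain ⟨k, hk⟩ := H299.PslCount.card_sylow_mod (fun P Q x => sylow_ti h P Q x) P
  have hP := card_sylow_u h h4 P
  rw [hP] at hk
  have h5 := (normalizer ((P : Subgroup L) : Set L)).card_mul_index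
  have h6 : Nat.card (Sylow s L) = (normalizer ((P : Subgroup L) : Set L)).index := P.card_eq_index_normalizer
  have h7 : Nat.card (P : Subgroup L) ∣ Nat.card (normalizer ((P : Subgroup L) : Set L)) :=
    Subgroup.card_dvd_of_le le_normalizer
  rw [hP] at h7
  obtain ⟨m, hm⟩ := h7
  rw [hm, ← h6, hk] at h5
  generalize s ^ e = q at *
  obtain ⟨v, rfl⟩ : ∃ v, q = v + 1 := ⟨q - 1, by omega⟩
  rw [Nat.add_sub_cancel] at hd
  have hk0 : k ≠ 0 := by
    rintro rfl
    rw [zero_mul, add_zero, h6, index_eq_one, normalizer_eq_top_iff] at hk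
    rcases hk.eq_bot_or_eq_top with h | h
    · rw [h, Subgroup.card_bot] at hP
      omega
    · rw [h, Subgroup.card_top] at hP
      rw [hP] at hd
      have h8 : d = v * (v + 1 + 1) := by
        have : (v + 1) * d = (v + 1) * (v * (v + 1 + 1)) := by rw [mul_comm (v + 1) d, hd]; ring
        exact Nat.eq_of_mul_eq_mul_left (by omega) this
      nlinarith
  have h8 : (d * m) * (1 + k * (v + 1)) = v * (v + 1 + 1) := by
    have : (v + 1) * ((d * m) * (1 + k * (v + 1))) = (v + 1) * (v * (v + 1 + 1)) := by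
      rw [← mul_assoc (v + 1) v, ← hd, ← h5]; ring
    exact Nat.eq_of_mul_eq_mul_left (by omega) this
  have h9 : (v + 1) ∣ d * m + 1 := by
    have h10 : (d * m + 1) + (v + 1) * (d * m * k) = (v + 1) * (v + 1) := by
      have : (v + 1) * (v + 1) = v * (v + 1 + 1) + 1 := by ring
      rw [this, ← h8]; ring
    exact (Nat.dvd_add_left (Dvd.intro _ rfl)).1 (h10 ▸ Dvd.intro _ rfl)
  have h11 : v + 1 ≤ d * m + 1 := Nat.le_of_dvd (by omega) h9
  have h12 : k = 1 := by
    by_contra hk1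
    have hk2 : 2 ≤ k := by omega
    have h13 : v * (1 + 2 * (v + 1)) ≤ (d * m) * (1 + k * (v + 1)) := by
      apply Nat.mul_le_mul (by omega)
      have := Nat.mul_le_mul_right (v + 1) hk2
      omega
    nlinarith
  rw [hk, h12]
  ring

theorem isSolvable_normalizer_sylow (h : H389.RSq.IsPSL s e L) [Fact s.Prime] (P : Sylow s L) :
    Group.IsSolvable (normalizer ((P : Subgroup L) : Set L)) := by
  obtain ⟨hs, F, _, _, hF, ⟨φ⟩⟩ := h
  have hc : CharP F s := by
    obtain ⟨p, hp⟩ := CharP.exists F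
    obtain ⟨n, hp', hn⟩ := FiniteField.card F p
    have h1 : p ∣ s ^ e := by
      rw [← hF, hn]
      exact dvd_pow_self p n.2.ne'
    rwa [(Nat.prime_dvd_prime_iff_eq hp' hs).mp (hp'.dvd_of_dvd_pow h1)] at hp
  have hsurj : Function.Surjective φ.toMonoidHom := φ.surjective
  have h1 := PSL2Solvable.isSolvable_of_le_normalizer s (P.mapSurjective hsurj)
    ((normalizer ((P : Subgroup L) : Set L)).map φ.toMonoidHom) (by
      rintro _ ⟨x, hx, rfl⟩
      refine mem_normalizer_fintype ?_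
      rintro _ ⟨y, hy, rfl⟩
      refine ⟨x * y * x⁻¹, (mem_normalizer_iff.mp hx y).mp hy, ?_⟩
      simp)
  exact Group.isSolvable_of_isSolvable_injective
    (f := ((normalizer ((P : Subgroup L) : Set L)).equivMapOfInjective φ.toMonoidHom φ.injective).toMonoidHom)
    (MulEquiv.injective _)

/-- a nontrivial element of prime order fixing three Sylow subgroups has order `s` -/
theorem three_points (h : H389.RSq.IsPSL s e L) [Fact s.Prime] (h4 : 4 ≤ s ^ e) {z : L} {q : ℕ} (hq : q.Prime)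
    (hz : orderOf z = q) (hqs : q ≠ s) {P₁ P₂ P₃ : Sylow s L} (h12 : P₁ ≠ P₂) (h13 : P₁ ≠ P₃)
    (h23 : P₂ ≠ P₃) (f1 : z • P₁ = P₁) (f2 : z • P₂ = P₂) (f3 : z • P₃ = P₃) : False := by
  classical
  have : Fintype (Sylow s L) := Fintype.ofFinite _
  have hs := h.1
  have hfix : ∀ g ∈ (P₁ : Subgroup L), g • P₁ = P₁ := fun g hg =>
    Sylow.smul_eq_iff_mem_normalizer.2 (le_normalizer hg)
  have hfree : ∀ g ∈ (P₁ : Subgroup L), g • P₂ = P₂ → g = 1 := by
    intro g hg hgP
    by_contra hg1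
    have h1 : g ∈ (P₂ : Subgroup L) :=
      H299.PslCount.mem_of_normalizer (P := P₁) hg (Sylow.smul_eq_iff_mem_normalizer.1 hgP)
    exact h12 (sylow_ti h P₁ P₂ g hg1 hg h1)
  let φ : ↥(P₁ : Subgroup L) → {Q : Sylow s L // Q ≠ P₁} := fun g => ⟨(g : L) • P₂, fun h0 => h12 (by
    have h1 : (g : L)⁻¹ • ((g : L) • P₂) = (g : L)⁻¹ • P₁ := by rw [h0]
    rw [inv_smul_smul, hfix _ (inv_mem g.2)] at h1
    exact h1.symm)⟩
  have hinj : Function.Injective φ := by
    intro a b hab
    have h1 : (a : L) • P₂ = (b : L) • P₂ := congrArg Subtype.val hab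
    have h2 : ((b : L)⁻¹ * a) • P₂ = P₂ := by rw [mul_smul, h1, inv_smul_smul]
    have h3 := hfree _ (mul_mem (inv_mem b.2) a.2) h2
    exact Subtype.ext (inv_mul_eq_one.mp h3).symm
  have hcard : Nat.card (P₁ : Subgroup L) = Nat.card {Q : Sylow s L // Q ≠ P₁} := by
    rw [card_sylow_u h h4, Nat.card_eq_fintype_card, Fintype.card_subtype_compl, Fintype.card_subtype_eq,
      ← Nat.card_eq_fintype_card, number_sylow h h4, Nat.add_sub_cancel]
  have hbij : Function.Bijective φ := by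
    have : Fintype (P₁ : Subgroup L) := Fintype.ofFinite _
    rw [Fintype.bijective_iff_injective_and_card]
    refine ⟨hinj, ?_⟩
    rw [← Nat.card_eq_fintype_card, ← Nat.card_eq_fintype_card, hcard]
  obtain ⟨x, hx⟩ := hbij.2 ⟨P₃, h13.symm⟩
  have hx' : (x : L) • P₂ = P₃ := congrArg Subtype.val hx
  have hzn : z * (x : L) * z⁻¹ ∈ (P₁ : Subgroup L) :=
    (mem_normalizer_iff.mp (Sylow.smul_eq_iff_mem_normalizer.1 f1) _).mp x.2
  have h5 : φ ⟨z * (x : L) * z⁻¹, hzn⟩ = φ x := by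
    apply Subtype.ext
    show (z * (x : L) * z⁻¹) • P₂ = (x : L) • P₂
    have h6 : z⁻¹ • P₂ = P₂ := by rw [inv_smul_eq_iff, f2]
    rw [mul_smul, mul_smul, h6, hx', f3]
  have h6 : z * (x : L) * z⁻¹ = x := congrArg Subtype.val (hinj h5)
  have hc : Commute z (x : L) := by
    rw [mul_inv_eq_iff_eq_mul] at h6
    exact h6
  obtain ⟨k, hk⟩ := (IsPGroup.iff_orderOf.mp P₁.2) x
  have hk0 : k ≠ 0 := by
    rintro rfl
    rw [pow_zero, orderOf_eq_one_iff] at hk
    rw [hk, OneMemClass.coe_one, one_smul] at hx'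
    exact h23 hx'
  have hxo : orderOf (x : L) = s ^ k := by rw [Subgroup.orderOf_coe]; exact hk
  have hcop : q.Coprime (s ^ k) := ((Nat.coprime_primes hq hs).mpr hqs).pow_right k
  have ho := Cfsg.Agent.H381.Tools.orderOf_mul hc hz hxo hcop
  have hqd : q ∣ orderOf (z * (x : L)) := by rw [ho]; exact Dvd.intro _ rfl
  have hsd : s ∣ orderOf (z * (x : L)) := by rw [ho]; exact (dvd_pow_self s hk0).mul_left _
  have h7 := coprime_pm h h4
  rcases h.orderOf_dvd (z * (x : L)) with h8 | h8 | h8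
  · exact hqs ((Nat.prime_dvd_prime_iff_eq hq hs).mp (hqd.trans h8))
  · exact (Nat.Prime.coprime_iff_not_dvd hs).mp h7 ((hsd.trans h8).mul_right _)
  · exact (Nat.Prime.coprime_iff_not_dvd hs).mp h7 ((hsd.trans h8).mul_left _)

/-- an element of odd prime order dividing `u - 1` fixes exactly two Sylow subgroups -/
theorem exists_two (h : H389.RSq.IsPSL s e L) [Fact s.Prime] (h4 : 4 ≤ s ^ e) {z : L} {q : ℕ} (hq : q.Prime)
    (hq2 : q ≠ 2) (hz : orderOf z = q) (hd : q ∣ s ^ e - 1) :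
    ∃ P Q : Sylow s L, P ≠ Q ∧ z • P = P ∧ z • Q = Q ∧ ∀ R : Sylow s L, z • R = R → R = P ∨ R = Q := by
  classical
  have : Fintype (Sylow s L) := Fintype.ofFinite _
  have hs := h.1
  have : Fact q.Prime := ⟨hq⟩
  have hqs : q ≠ s := by
    rintro rfl
    exact (Nat.Prime.coprime_iff_not_dvd hs).mp (coprime_pm h h4) (hd.mul_right _)
  have h1 := (isPGroup_zpowers hq hz).card_modEq_card_fixedPoints (Sylow s L)
  rw [number_sylow h h4] at h1
  have hfp : ∀ R : Sylow s L, R ∈ MulAction.fixedPoints (zpowers z) (Sylow s L) ↔ z • R = R := by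
    intro R
    constructor
    · intro hR
      exact hR ⟨z, mem_zpowers z⟩
    · rintro hR ⟨_, k, rfl⟩
      show (z ^ k) • R = R
      have h2 : z ∈ MulAction.stabilizer L R := MulAction.mem_stabilizer_iff.mpr hR
      exact MulAction.mem_stabilizer_iff.mp (zpow_mem h2 k)
  set S : Finset (Sylow s L) := Finset.univ.filter fun R => z • R = R with hS
  have hcS : Nat.card (MulAction.fixedPoints (zpowers z) (Sylow s L)) = S.card := by
    rw [hS, ← Fintype.card_subtype, ← Nat.card_eq_fintype_card]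
    exact Nat.card_congr (Equiv.subtypeEquivRight hfp)
  rw [hcS] at h1
  have hle : S.card ≤ 2 := by
    by_contra hlt
    push Not at hlt
    obtain ⟨A, B, C, hA, hB, hC, hAB, hAC, hBC⟩ := Finset.two_lt_card_iff.mp hlt
    rw [hS, Finset.mem_filter] at hA hB hC
    exact three_points h h4 hq hz hqs hAB hAC hBC hA.2 hB.2 hC.2
  have hq3 : 3 ≤ q := by
    have := hq.two_le
    omega
  have h2 : S.card = 2 := by
    have h3 : s ^ e + 1 ≡ 2 [MOD q] := by
      have h5 : s ^ e + 1 = (s ^ e - 1) + 2 := by omega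
      rw [h5]
      exact (Nat.modEq_zero_iff_dvd.mpr hd).add_right 2
    have h5 := h1.symm.trans h3
    have h6 := Nat.ModEq.eq_of_lt_of_lt h5 (by omega) (by omega)
    exact h6
  obtain ⟨P, Q, hPQ, hSe⟩ := Finset.card_eq_two.mp h2
  have hP : P ∈ S := by rw [hSe]; exact Finset.mem_insert_self _ _
  have hQ : Q ∈ S := by rw [hSe]; exact Finset.mem_insert_of_mem (Finset.mem_singleton_self _)
  refine ⟨P, Q, hPQ, (Finset.mem_filter.mp hP).2, (Finset.mem_filter.mp hQ).2, ?_⟩
  intro R hR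
  have h3 : R ∈ S := Finset.mem_filter.mpr ⟨Finset.mem_univ _, hR⟩
  rw [hSe, Finset.mem_insert, Finset.mem_singleton] at h3
  exact h3

end L

end Cfsg.Agent.H333.S3530
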