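import Cfsg.Agent.H333.S3530.Quo

/-!
# S3530: `M1.ec` (helper333)
-/

set_option autoImplicit false
set_option linter.unusedSectionVars false
set_option linter.unusedVariables false

namespace Cfsg.Agent.H333.S3530

open Subgroup
open Cfsg.Agent.H389.JSq (Has)
open Cfsg.Agent.H389.RSq
open Cfsg.Agent.H381.Tools
open Cfsg.Agent.OddOrderLocal.HallPi

universe u

/-- a `p`-subgroup injects if `p` does not divide the order of the kernel -/
theorem inj_of_not_dvd {X Z : Type*} [Group X] [Finite X] [Group Z] (g : X →* Z) {p : ℕ} (hp : p.Prime)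
    (hk : ¬ p ∣ Nat.card g.ker) {T : Subgroup X} (hT : IsPGroup p T) : Function.Injective (g.comp T.subtype) := by
  have : Fact p.Prime := ⟨hp⟩
  rw [injective_iff_map_eq_one]
  intro t ht
  obtain ⟨n, hn⟩ := (IsPGroup.iff_orderOf.mp hT) t
  have h1 : (t : X) ∈ g.ker := ht
  have h2 : orderOf (t : X) ∣ Nat.card g.ker := orderOf_dvd_card_of_mem h1
  rw [Subgroup.orderOf_coe, hn] at h2
  rcases Nat.eq_zero_or_pos n with rfl | hn0
  · rw [pow_zero] at hn
    exact orderOf_eq_one_iff.mp hn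
  · exact (hk ((dvd_pow_self p hn0.ne').trans h2)).elim

end Cfsg.Agent.H333.S3530

namespace Cfsg.Agent.H389.RSq

open Subgroup
open Cfsg.Agent.H389.JSq (Has)
open Cfsg.Agent.H381.Tools
open Cfsg.Agent.OddOrderLocal.HallPi
open Cfsg.Agent.H333.S3530

universe u

variable {m : ℕ} {σ : Fin 5 → ℕ} {X Y : Type u} [Group X] [Finite X] [Group Y] [Finite Y] {f : X →* Y}
  {D P : Subgroup X} {E K L : Subgroup Y} {H : Set ℕ → Subgroup X}

/-- all the subgroups of order `σ j` of `X` are conjugate if the Sylow subgroups are cyclic -/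
theorem M1.ec (h : M1 m σ f K) {j : Fin 5} (hj : σ j ∣ Nat.card K) (hker : ¬ σ j ∣ Nat.card f.ker)
    (hidx : ¬ σ j ∣ K.index) (hc : ∀ T : Subgroup K, IsPGroup (σ j) T → IsCyclic T) : False := by
  have hKn := h.normal
  have hp := h.sig.prime
  have hmemK : ∀ x : X, (∃ n, orderOf x = σ j ^ n) → f x ∈ K := by
    rintro x ⟨n, hn⟩
    have h1 : orderOf (f x) ∣ σ j ^ n := hn ▸ orderOf_map_dvd f x
    obtain ⟨k, -, hk⟩ := (Nat.dvd_prime_pow (hp j)).mp h1
    exact mem_of_not_dvd_index (hp j) hidx hk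
  have hcX : ∀ T : Subgroup X, IsPGroup (σ j) T → IsCyclic T := by
    intro T hT
    have : Fact (σ j).Prime := ⟨hp j⟩
    have hinj := inj_of_not_dvd f (hp j) hker hT
    have hTK : ∀ t : T, f t ∈ K := fun t => hmemK t (by
      obtain ⟨n, hn⟩ := (IsPGroup.iff_orderOf.mp hT) t
      exact ⟨n, by rw [Subgroup.orderOf_coe, hn]⟩)
    let g : T →* K := (f.comp T.subtype).codRestrict K hTK
    have hg : Function.Injective g := by
      intro a b hab
      exact hinj (congrArg Subtype.val hab)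
    have h1 : IsPGroup (σ j) g.range := hT.of_surjective g.rangeRestrict g.rangeRestrict_surjective
    have h2 := hc _ h1
    exact isCyclic_of_injective g.rangeRestrict (fun a b hab => hg (congrArg Subtype.val hab))
  obtain ⟨a, b, c, haj, hbj, hcj, hab, hac, hbc⟩ : ∃ a b c : Fin 5, a ≠ j ∧ b ≠ j ∧ c ≠ j ∧ a ≠ b ∧ a ≠ c ∧ b ≠ c := by
    clear hj hker hidx hc hmemK hcX; revert j; decide
  obtain ⟨x, -, -, hx, -⟩ := has_pair (hp j) (hp a) (h.k5 j a haj.symm)
  have hfx : orderOf (f x) = σ j := by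
    rw [JSq.orderOf_map_eq f (by rw [hx]; exact (Nat.Prime.coprime_iff_not_dvd (hp j)).mpr hker), hx]
  have hfxK : f x ∈ K := hmemK x ⟨1, by rw [hx, pow_one]⟩
  have hs : Group.IsSolvable (centralizer ({x} : Set X)) := by
    apply isSolvable_of_map (f := f) (isSolvable_inf_ker h.toM0 _)
    have hcyc := isCyclic_quotient h.isK h.cent h.index
    apply isSolvable_of_inf (K := K) _ isSolvable_of_isCyclic
    have h1 : IsPGroup (σ j) (zpowers (⟨f x, hfxK⟩ : K)) :=
      isPGroup_zpowers (hp j) (by rw [← Subgroup.orderOf_coe]; exact hfx)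
    have h2 : zpowers (⟨f x, hfxK⟩ : K) ≠ ⊥ := by
      rw [Ne, zpowers_eq_bot]
      intro h0
      have h3 : f x = 1 := congrArg Subtype.val h0
      rw [h3, orderOf_one] at hfx
      exact (hp j).one_lt.ne hfx
    have h3 := isSolvable_normalizer_isK h.isK (hp j) (h.sig.ne_two j) h1 h2
    let φ : ((centralizer ({x} : Set X)).map f ⊓ K : Subgroup Y) →* normalizer ((zpowers (⟨f x, hfxK⟩ : K) : Subgroup K) : Set K) :=
      { toFun := fun y => ⟨⟨y, y.2.2⟩, by
          have h4 : Commute (f x) (y : Y) := by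
            obtain ⟨z, hz, hzy⟩ := y.2.1
            rw [← hzy]
            exact (mem_cent_iff.mp hz).map f
          have h5 : (⟨y, y.2.2⟩ : K) ∈ centralizer ({(⟨f x, hfxK⟩ : K)} : Set K) := mem_cent_iff.mpr (Subtype.ext h4.eq)
          refine mem_normalizer_fintype ?_
          rintro t ht
          obtain ⟨k, rfl⟩ := mem_zpowers_iff.mp ht
          have h6 := ((mem_cent_iff.mp h5).zpow_left k).eq
          rw [← h6, mul_inv_cancel_right]
          exact ht⟩
        map_one' := rfl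
        map_mul' := fun _ _ => rfl }
    refine Group.isSolvable_of_isSolvable_injective (f := φ) ?_
    intro y z hyz
    have h7 : ((φ y : K) : Y) = ((φ z : K) : Y) := by rw [hyz]
    exact Subtype.ext h7
  refine h.cl.no_cent_solvable (h.sig.tri hab hac hbc) (hp j) (h.sig.ne_two j) ?_ ?_ ?_ hx le_rfl hs
    (dvd_cent hp h.k5 hcX hx haj) (dvd_cent hp h.k5 hcX hx hbj) (dvd_cent hp h.k5 hcX hx hcj)
  · rw [h.sig.cls, h.sig.cls]; exact haj.symm
  · rw [h.sig.cls, h.sig.cls]; exact hbj.symm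
  · rw [h.sig.cls, h.sig.cls]; exact hcj.symm

end Cfsg.Agent.H389.RSq
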