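import Cfsg.Agent.H333.S3530.Quo
import Cfsg.Agent.H333.S3530.Ec
import Cfsg.Agent.H349.S3530.C59

/-!
# S3530: `M1.c2` (helper333)
-/

set_option autoImplicit false
set_option linter.unusedSectionVars false
set_option linter.unusedVariables false

namespace Cfsg.Agent.H389.RSq

open Subgroup
open Cfsg.Agent.H389.JSq (Has)
open Cfsg.Agent.H381.Tools
open Cfsg.Agent.OddOrderLocal.HallPi
open Cfsg.Agent.H333.S3530

universe u

variable {m : ℕ} {σ : Fin 5 → ℕ} {X Y : Type u} [Group X] [Finite X] [Group Y] [Finite Y] {f : X →* Y}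
  {D P : Subgroup X} {E K L : Subgroup Y} {H : Set ℕ → Subgroup X}

theorem _root_.Cfsg.Agent.H333.S3530.exists_fin5 (a b c : Fin 5) : ∃ d : Fin 5, d ≠ a ∧ d ≠ b ∧ d ≠ c := by
  revert a b c; decide

/-- four indices in four kinds, at most one of each kind -/
theorem _root_.Cfsg.Agent.H333.S3530.pigeon {j : Fin 5} {N S M Q : Fin 5 → Prop} (hcov : ∀ i, i ≠ j → N i ∨ S i ∨ M i ∨ Q i)
    (hN : ∀ i i', i ≠ j → i' ≠ j → N i → N i' → i = i') (hS : ∀ i i', i ≠ j → i' ≠ j → S i → S i' → i = i')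
    (hM : ∀ i i', i ≠ j → i' ≠ j → M i → M i' → i = i') (hQ : ∀ i i', i ≠ j → i' ≠ j → Q i → Q i' → i = i') :
    ∃ r w, r ≠ j ∧ w ≠ j ∧ r ≠ w ∧ M r ∧ ¬ N r ∧ N w ∧ ¬ S w := by
  classical
  let R : Fin 4 → Fin 5 → Prop := fun k => if k = 0 then N else if k = 1 then S else if k = 2 then M else Q
  have hR : ∀ i : {i : Fin 5 // i ≠ j}, ∃ k, R k i := by
    rintro ⟨i, hi⟩
    rcases hcov i hi with h | h | h | h
    exacts [⟨0, h⟩, ⟨1, h⟩, ⟨2, h⟩, ⟨3, h⟩]
  choose k hk using hR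
  have huniq : ∀ (l : Fin 4) (i i' : Fin 5), i ≠ j → i' ≠ j → R l i → R l i' → i = i' := by
    intro l
    fin_cases l
    exacts [hN, hS, hM, hQ]
  have hinj : Function.Injective k := by
    intro a b hab
    exact Subtype.ext (huniq (k a) a b a.2 b.2 (hk a) (by rw [hab]; exact hk b))
  have hcard : Fintype.card {i : Fin 5 // i ≠ j} = Fintype.card (Fin 4) := by
    clear * -
    revert j; decide
  have hbij := (Fintype.bijective_iff_injective_and_card k).mpr ⟨hinj, hcard⟩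
  obtain ⟨w, hw⟩ := hbij.2 0
  obtain ⟨v, hv⟩ := hbij.2 1
  obtain ⟨r, hr⟩ := hbij.2 2
  have hNw : N w := by have := hk w; rw [hw] at this; exact this
  have hSv : S v := by have := hk v; rw [hv] at this; exact this
  have hMr : M r := by have := hk r; rw [hr] at this; exact this
  have hrw : (r : Fin 5) ≠ w := by
    intro h
    have h1 : r = w := Subtype.ext h
    rw [h1, hw] at hr
    exact absurd hr (by decide)
  have hvw : (v : Fin 5) ≠ w := by
    intro h
    have h1 : v = w := Subtype.ext h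
    rw [h1, hw] at hv
    exact absurd hv (by decide)
  exact ⟨r, w, r.2, w.2, hrw, hMr, fun h => hrw (hN _ _ r.2 w.2 h hNw), hNw, fun h => hvw (hS _ _ v.2 w.2 hSv h)⟩

theorem M1.c2 (h : M1 m σ f K) {s e : ℕ} (hK : IsL2 s e K) {j : Fin 5} (hj : ¬ σ j ∣ Nat.card K)
    (hker : ¬ σ j ∣ Nat.card f.ker) : False := by
  have hKn := h.normal
  have hp := h.sig.prime
  have hsp : s.Prime := hK.psl.1
  have hpj := (Nat.Prime.coprime_iff_not_dvd (hp j)).mpr hker
  have hj0 : j ≠ 0 := by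
    rintro rfl
    rw [h.sig.zero] at hj
    exact hj hK.three_dvd
  obtain ⟨A, hA, hAK, hAt, hAe, ⟨z, hzK, hz3, hAz⟩, -, hL0⟩ := l2_ext hK h.cent h.index
  obtain ⟨hAc, hAq⟩ := card_compl hAK hAt
  have hYK := hAq hA
  -- all `p`-subgroups of `X` are cyclic
  have hkg : ¬ σ j ∣ Nat.card ((QuotientGroup.mk' K).comp f).ker := by
    have h1 : ((QuotientGroup.mk' K).comp f).ker = K.comap f := by
      rw [← MonoidHom.comap_ker, QuotientGroup.ker_mk']
    have h2 := card_eq_mul f (K.comap f)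
    rw [Subgroup.map_comap_eq_self_of_surjective h.surj, inf_eq_right.mpr (f.ker_le_comap K)] at h2
    rw [h1, h2]
    intro h3
    rcases (hp j).dvd_mul.mp h3 with h4 | h4
    exacts [hker h4, hj h4]
  have hcX : ∀ T : Subgroup X, IsPGroup (σ j) T → IsCyclic T := fun T hT =>
    isCyclic_of_injective _ (inj_of_not_dvd _ (hp j) hkg hT)
  -- `p` divides `|A|`
  obtain ⟨i₀, hi₀⟩ : ∃ i : Fin 5, i ≠ j := exists_ne j
  obtain ⟨x₀, -, -, hx₀, -⟩ := has_pair (hp j) (hp i₀) (h.k5 j i₀ hi₀.symm)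
  have hjA : σ j ∣ K.index := by
    have h1 : orderOf (QuotientGroup.mk' K (f x₀)) = σ j := by
      have h2 := inj_of_not_dvd _ (hp j) hkg (isPGroup_zpowers (hp j) hx₀)
      have h3 := orderOf_injective _ h2 ⟨x₀, mem_zpowers x₀⟩
      rw [← Subgroup.orderOf_coe] at h3
      exact h3.trans hx₀
    rw [← h1, Subgroup.index]
    exact orderOf_dvd_natCard _
  obtain ⟨a, haA, hao⟩ := exists_mem_of_dvd (hp j) (by rw [hAc]; exact hjA)
  obtain ⟨x, hfx, hxo⟩ := JSq.exists_lift_surj f h.surj hao hpj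
  set D : Subgroup X := centralizer {x} with hD
  have hDd : ∀ i, i ≠ j → σ i ∣ Nat.card D := fun i hi => dvd_cent hp h.k5 hcX hxo hi
  set L0 : Subgroup Y := K ⊓ centralizer {a} with hL0d
  have hCD : centralizer ({a} : Set Y) ≤ D.map f := by
    intro y hy
    obtain ⟨g, rfl⟩ := h.surj y
    obtain ⟨n, hn, hc⟩ := JSq.exists_comm_lift f (a := x) (g := g) (by rw [hxo]; exact hpj)
      (by rw [hfx]; exact mem_cent_iff.mp hy)
    refine ⟨n * g, mem_cent_iff.mpr hc, ?_⟩
    rw [map_mul, MonoidHom.mem_ker.mp hn, one_mul]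
  have hDC : D.map f ≤ centralizer ({a} : Set Y) := by
    rintro _ ⟨y, hy, rfl⟩
    rw [mem_cent_iff, ← hfx]
    exact (mem_cent_iff.mp hy).map f
  have hLD : L0 ≤ D.map f := inf_le_right.trans hCD
  have hcardC : Nat.card (D.map f) ∣ Nat.card L0 * K.index := by
    refine (card_dvd_of_le hDC).trans ?_
    have h1 := card_eq_mul (QuotientGroup.mk' K) (centralizer ({a} : Set Y))
    rw [QuotientGroup.ker_mk', inf_comm] at h1
    rw [h1, Subgroup.index]
    exact mul_dvd_mul_left _ (card_subgroup_dvd_card _)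
  have hpsl := hL0 (σ j) (hp j) a haA hao
  set u := s ^ (e / σ j) with hu
  have he1 : 1 ≤ e / σ j := by
    have h1 : σ j ∣ e := (hAc ▸ hjA : σ j ∣ Nat.card A).trans hAe
    have h2 : 0 < e := hK.odd.pos
    exact (Nat.one_le_div_iff (hp j).pos).mpr (Nat.le_of_dvd h2 h1)
  have hL0card : Nat.card L0 ∣ u * (u - 1) * (u + 1) := by
    by_cases hs : s = 2
    · exact (hpsl.card_even hs).dvd
    · exact (Dvd.intro_left 2 (hpsl.card_odd hs))
  have hcov : ∀ i, i ≠ j → σ i ∣ Nat.card (D ⊓ f.ker : Subgroup X) ∨ σ i = s ∨ σ i ∣ u - 1 ∨ σ i ∣ u + 1 := by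
    intro i hi
    have key : σ i ∣ Nat.card L0 → σ i = s ∨ σ i ∣ u - 1 ∨ σ i ∣ u + 1 := by
      intro h1
      rcases (hp i).dvd_mul.mp (h1.trans hL0card) with h2 | h2
      · rcases (hp i).dvd_mul.mp h2 with h3 | h3
        · exact Or.inl ((Nat.prime_dvd_prime_iff_eq (hp i) hsp).mp ((hp i).dvd_of_dvd_pow h3))
        · exact Or.inr (Or.inl h3)
      · exact Or.inr (Or.inr h2)
    have h1 := hDd i hi
    rw [card_eq_mul f D] at h1
    rcases (hp i).dvd_mul.mp h1 with h2 | h2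
    · exact Or.inl h2
    · rcases (hp i).dvd_mul.mp (h2.trans hcardC) with h3 | h3
      · exact Or.inr (key h3)
      · by_cases hi0 : i = 0
        · right
          apply key
          rw [hi0, h.sig.zero]
          exact dvd_card_of_mem (mem_inf.mpr ⟨hzK, mem_cent_iff.mpr (mem_cent_iff.mp (hAz haA)).symm⟩) hz3
        · exact (h.c5 hK hi hi0 hj0 h3 hjA).elim
  have hDN : Group.IsSolvable (D ⊓ f.ker : Subgroup X) := isSolvable_inf_ker h.toM0 D
  have hcl : ∀ i i', i ≠ j → i' ≠ j → i ≠ i' → ¬ Has L0 (σ i * σ i') := by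
    intro i i' hi hi' hii hh
    have h1 : Has (D.map f) (σ i * σ i') := hh.of_injective (Subgroup.inclusion hLD) (Subgroup.inclusion_injective hLD)
    have h2 : Has D (σ i * σ i') := h1.of_surjective (f.subgroupMap D) (f.subgroupMap_surjective D)
    exact h.cl.no_cent (h.sig.tri hi.symm hi'.symm hii) hxo le_rfl h2
  obtain ⟨r, w, hrj, hwj, hrw, hMr, hNr, hNw, hSw⟩ := pigeon (j := j)
    (N := fun i => σ i ∣ Nat.card (D ⊓ f.ker : Subgroup X)) (S := fun i => σ i = s) (M := fun i => σ i ∣ u - 1)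
    (Q := fun i => σ i ∣ u + 1) hcov
    (by
      intro i i' hi hi' h1 h2
      by_contra hne
      obtain ⟨c, hcj, hci, hci'⟩ := exists_fin5 j i i'
      refine h.cl.no_cent_coclique (h.sig.tri hne hci.symm hci'.symm) (hp j) (h.sig.ne_two j) ?_ ?_ ?_ hxo le_rfl hDN
        inf_le_left (Cov.le_normalizer_ker D f) h1 h2 (hDd c hcj)
      · rw [h.sig.cls, h.sig.cls]; exact hi.symm
      · rw [h.sig.cls, h.sig.cls]; exact hi'.symm
      · rw [h.sig.cls, h.sig.cls]; exact hcj.symm)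
    (fun i i' _ _ h1 h2 => h.sig.inj (h1.trans h2.symm))
    (by
      intro i i' hi hi' h1 h2
      by_contra hne
      exact hcl i i' hi hi' hne (hpsl.has_mul (hp i) (hp i') (h.sig.ne_two i) (h.sig.ne_two i') (h.sig.ne hne)
        (Or.inl ⟨h1, h2⟩)))
    (by
      intro i i' hi hi' h1 h2
      by_contra hne
      exact hcl i i' hi hi' hne (hpsl.has_mul (hp i) (hp i') (h.sig.ne_two i) (h.sig.ne_two i') (h.sig.ne hne)
        (Or.inr ⟨h1, h2⟩)))
  have hr3 : 3 ≤ σ r := by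
    have h1 := (hp r).two_le
    have h2 := h.sig.ne_two r
    omega
  have hsu : s ∣ u := dvd_pow_self s (by omega)
  have hu1 : 1 < u := by
    have h1 : s ≤ u := Nat.le_of_dvd (pow_pos hsp.pos _) hsu
    have := hsp.one_lt
    omega
  have hu4 : 4 ≤ u := by
    have h1 : σ r ≤ u - 1 := Nat.le_of_dvd (by omega) hMr
    omega
  have hLs : IsSimpleGroup L0 := by
    obtain ⟨-, F, i1, i2, hF, ⟨φ⟩⟩ := hpsl
    have h1 : IsSimpleGroup (Matrix.ProjectiveSpecialLinearGroup (Fin 2) F) :=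
      Matrix.ProjectiveSpecialLinearGroup.rank_two_simple (by rw [Nat.card_eq_fintype_card, hF]; exact hu4)
    exact φ.isSimpleGroup
  have hsr : s ≠ σ r := by
    intro h1
    rw [← h1] at hMr
    have h2 : s ∣ 1 := by
      have h3 := Nat.dvd_sub hsu hMr
      rwa [Nat.sub_sub_self hu1.le] at h3
    exact hsp.one_lt.ne' (Nat.dvd_one.mp h2)
  exact h.toM0.pivot_cent (h.sig.tri hrj.symm hwj.symm hrw) hxo hLs hLD hsp hsr (fun h1 => hSw h1.symm)
    (hpsl.piv (hp r) (h.sig.ne_two r) hMr) hNw hNr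

end Cfsg.Agent.H389.RSq
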