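import Cfsg.Agent.H333.S3530.C4
import Cfsg.Agent.H349.S3530.C59

/-!
# S3530: `M1.c3` (helper333)
-/

set_option autoImplicit false
set_option linter.unusedSectionVars false

namespace Cfsg.Agent.H389.RSq

open Subgroup
open Cfsg.Agent.H389.JSq (Has)
open Cfsg.Agent.H381.Tools
open Cfsg.Agent.H333.S3530
open Cfsg.Agent.H333.S3530.Fix

universe u

variable {m : ℕ} {σ : Fin 5 → ℕ} {X Y : Type u} [Group X] [Finite X] [Group Y] [Finite Y] {f : X →* Y}
  {D P : Subgroup X} {E K L : Subgroup Y} {H : Set ℕ → Subgroup X}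

theorem M1.c3 (h : M1 m σ f K) {s e : ℕ} (hK : IsL2 s e K) :
    ∃ i j, i ≠ j ∧ σ i ∣ s ^ e + 1 ∧ σ j ∣ s ^ e + 1 := by
  by_contra hno
  push Not at hno
  have := h.normal
  have hs := hK.psl.1
  have : Fact s.Prime := ⟨hs⟩
  have h4 : 4 ≤ s ^ e := four_le hK
  obtain ⟨t, ht⟩ : ∃ t, ∀ i, i ≠ t → ¬ σ i ∣ s ^ e + 1 := by
    by_cases h0 : ∃ t, σ t ∣ s ^ e + 1
    · obtain ⟨t, ht⟩ := h0
      exact ⟨t, fun i hi => hno t i hi.symm ht⟩
    · push Not at h0
      exact ⟨0, fun i _ => h0 i⟩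
  obtain ⟨P0⟩ : Nonempty (Sylow s K) := inferInstance
  have hcyc := isCyclic_quotient h.isK h.cent h.index
  have hsol := Fix.isSolvable_comap h.toM0 isSolvable_of_isCyclic P0 (isSolvable_normalizer_sylow hK.psl P0)
  have hnum : Nat.card (Sylow s K) = s ^ e + 1 := number_sylow hK.psl h4
  have hix : (normalizer ((P0 : Subgroup K) : Set K)).index = s ^ e + 1 := by
    rw [← hnum]
    exact P0.card_eq_index_normalizer.symm
  have hTI := fun P Q x => sylow_ti hK.psl P Q x
  have hodd : ∀ i, Odd (σ i) := fun i => (h.sig.prime i).odd_of_ne_two (h.sig.ne_two i)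
  set N : Subgroup X := (normalizer (((P0 : Subgroup K).map K.subtype : Subgroup Y) : Set Y)).comap f with hN
  have key0 : ∀ i j, j ≠ t → i ≠ j → ¬ σ i ∣ Nat.card K → Has N (σ i * σ j) := by
    intro i j hj hij hiK
    exact Fix.has_comap h.surj P0 (h.sig.prime i) (h.sig.prime j) (h.sig.ne hij) (h.k5 i j hij) hiK
      (by rw [hix]; exact ht j hj)
  have hdvd : ∀ i, i ≠ t → σ i ∣ Nat.card K → σ i = s ∨ σ i ∣ s ^ e - 1 := by
    intro i hi hiK
    rcases (h.sig.prime i).dvd_mul.mp (dvd_three hK.psl hiK) with h1 | h1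
    · rcases (h.sig.prime i).dvd_mul.mp h1 with h2 | h2
      · exact Or.inl ((Nat.prime_dvd_prime_iff_eq (h.sig.prime i) hs).mp ((h.sig.prime i).dvd_of_dvd_pow h2))
      · exact Or.inr h2
    · exact absurd h1 (ht i hi)
  have key1 : ∀ i j, i ≠ t → j ≠ t → i ≠ j → σ i = s → σ j ∣ s ^ e - 1 → Has N (σ i * σ j) := by
    intro i j hi hj hij hsi hd
    obtain ⟨a, b, hab, ha, hb⟩ := has_pair (h.sig.prime i) (h.sig.prime j) (h.k5 i j hij)
    have hfab : Commute (f a) (f b) := hab.map f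
    have hfa : (f a) ^ σ i = 1 := by rw [← map_pow, ← ha, pow_orderOf_eq_one, map_one]
    have hfb : (f b) ^ σ j = 1 := by rw [← map_pow, ← hb, pow_orderOf_eq_one, map_one]
    by_cases hya : f a = 1
    · obtain ⟨P, hP⟩ := Fix.fix_of_coprime (r := s) (K := K) (h.sig.prime j) hfb (by rw [hnum]; exact ht j hj)
      exact Fix.has_of_common h.surj P0 (h.sig.prime i) (h.sig.prime j) (h.sig.ne hij) hab ha hb (P := P)
        (by rw [hya, Fix.cj_one]) hP
    by_cases hzb : f b = 1
    · obtain ⟨P, hP⟩ := Fix.fix_of_coprime (r := s) (K := K) (h.sig.prime i) hfa (by rw [hnum]; exact ht i hi)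
      exact Fix.has_of_common h.surj P0 (h.sig.prime i) (h.sig.prime j) (h.sig.ne hij) hab ha hb (P := P)
        hP (by rw [hzb, Fix.cj_one])
    have hoa : orderOf (f a) = σ i := by
      have := Fact.mk (h.sig.prime i)
      exact orderOf_eq_prime hfa hya
    have hob : orderOf (f b) = σ j := by
      have := Fact.mk (h.sig.prime j)
      exact orderOf_eq_prime hfb hzb
    by_cases haK : f a ∈ K
    · obtain ⟨P, h1, h2⟩ := Fix.fix_of_mem hTI hfab haK (hoa.trans hsi)
      exact Fix.has_of_common h.surj P0 (h.sig.prime i) (h.sig.prime j) (h.sig.ne hij) hab ha hb h1 h2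
    by_cases hbK : f b ∈ K
    · obtain ⟨P, h1, h2⟩ := common_two hK.psl h4 (h.sig.prime j) (h.sig.ne_two j) hd hfab
        (by rw [hoa]; exact hodd i) hbK hob
      exact Fix.has_of_common h.surj P0 (h.sig.prime i) (h.sig.prime j) (h.sig.ne hij) hab ha hb h1 h2
    have hia : σ i ∣ K.index := by
      by_contra h0
      exact haK (mem_of_not_dvd_index (h.sig.prime i) h0 (n := 1) (by rw [pow_one]; exact hoa))
    have hja : σ j ∣ K.index := by
      by_contra h0
      exact hbK (mem_of_not_dvd_index (h.sig.prime j) h0 (n := 1) (by rw [pow_one]; exact hob))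
    obtain ⟨A, hA, hAi, hAs, -, ⟨z, hzK, hz, hAz⟩, -⟩ := l2_ext hK h.cent h.index
    have hcA : Nat.card A = K.index := (card_compl hAi hAs).1
    by_cases hi0 : i = 0
    · have := Fact.mk (h.sig.prime j)
      obtain ⟨a', ha'⟩ := exists_prime_orderOf_dvd_card' (σ j) (hcA.symm ▸ hja : σ j ∣ Nat.card A)
      have hza : Commute z (a' : Y) := (mem_centralizer_singleton_iff.mp (hAz a'.2)).symm
      have hzi : orderOf z = σ i := by rw [hi0, h.sig.zero]; exact hz
      have haj : orderOf (a' : Y) = σ j := by rw [Subgroup.orderOf_coe]; exact ha'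
      obtain ⟨P, h1, h2⟩ := Fix.fix_of_mem hTI hza hzK (hzi.trans hsi)
      exact Fix.has_of_common' h.surj P0 (h.sig.prime i) (h.sig.prime j) (h.sig.ne hij) hza hzi haj h1 h2
    · by_cases hj0 : j = 0
      · have := Fact.mk (h.sig.prime i)
        obtain ⟨a', ha'⟩ := exists_prime_orderOf_dvd_card' (σ i) (hcA.symm ▸ hia : σ i ∣ Nat.card A)
        have hza : Commute (a' : Y) z := mem_centralizer_singleton_iff.mp (hAz a'.2)
        have hzi : orderOf z = σ j := by rw [hj0, h.sig.zero]; exact hz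
        have haj : orderOf (a' : Y) = σ i := by rw [Subgroup.orderOf_coe]; exact ha'
        obtain ⟨P, h1, h2⟩ := common_two hK.psl h4 (h.sig.prime j) (h.sig.ne_two j) hd hza
          (by rw [haj]; exact hodd i) hzK hzi
        exact Fix.has_of_common' h.surj P0 (h.sig.prime i) (h.sig.prime j) (h.sig.ne hij) hza haj hzi h1 h2
      · exact (h.c5 hK hij hi0 hj0 hia hja).elim
  have key2 : ∀ i j, i ≠ j → σ i ∣ s ^ e - 1 → σ j ∣ s ^ e - 1 → Has N (σ i * σ j) := by
    intro i j hij hi hj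
    obtain ⟨a, b, hab, ha, hb⟩ := has_pair (h.sig.prime i) (h.sig.prime j)
      (hK.psl.has_mul (h.sig.prime i) (h.sig.prime j) (h.sig.ne_two i) (h.sig.ne_two j) (h.sig.ne hij)
        (Or.inl ⟨hi, hj⟩))
    have hoa : orderOf (a : Y) = σ i := by rw [Subgroup.orderOf_coe]; exact ha
    have hob : orderOf (b : Y) = σ j := by rw [Subgroup.orderOf_coe]; exact hb
    have hab' : Commute (a : Y) (b : Y) := hab.map K.subtype
    obtain ⟨P, h1, h2⟩ := common_two hK.psl h4 (h.sig.prime j) (h.sig.ne_two j) hj hab'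
      (by rw [hoa]; exact hodd i) b.2 hob
    exact Fix.has_of_common' h.surj P0 (h.sig.prime i) (h.sig.prime j) (h.sig.ne hij) hab' hoa hob h1 h2
  refine (h.cl.subgroup N).solv4 h.sig hsol (t := t) ?_
  intro i j hi hj hij
  by_cases hiK : σ i ∣ Nat.card K
  · by_cases hjK : σ j ∣ Nat.card K
    · rcases hdvd i hi hiK with h1 | h1 <;> rcases hdvd j hj hjK with h2 | h2
      · exact absurd (h1.trans h2.symm) (h.sig.ne hij)
      · exact key1 i j hi hj hij h1 h2
      · rw [mul_comm]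
        exact key1 j i hj hi hij.symm h2 h1
      · exact key2 i j hij h1 h2
    · rw [mul_comm]
      exact key0 j i hi hij.symm hjK
  · exact key0 i j hj hij hiK

end Cfsg.Agent.H389.RSq
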