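import Cfsg.Agent.H333.S3530.Cyc
import Cfsg.Agent.H984.S3530.L2Ext
import Cfsg.Agent.H70.S3530.ReeExt
import Cfsg.Agent.H389.R.Ctx
import Cfsg.Agent.H393.S3530.PslLocal
import Cfsg.Agent.H829.S3530.Ree

/-!
# S3530: the quotient by the component (helper333)
-/

set_option autoImplicit false
set_option linter.unusedSectionVars false
set_option linter.unusedVariables false

namespace Cfsg.Agent.H333.S3530

open Subgroup
open Cfsg.Agent.H389.RSq

universe u

/-- a `p`-element lies in a normal subgroup of index prime to `p` -/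
theorem mem_of_not_dvd_index {Y : Type*} [Group Y] [Finite Y] {K : Subgroup Y} [K.Normal] {p : ℕ} (hp : p.Prime)
    (hK : ¬ p ∣ K.index) {y : Y} {n : ℕ} (hy : orderOf y = p ^ n) : y ∈ K := by
  have h1 : orderOf (QuotientGroup.mk' K y) ∣ p ^ n := hy ▸ orderOf_map_dvd (QuotientGroup.mk' K) y
  have h2 : orderOf (QuotientGroup.mk' K y) ∣ K.index := by
    rw [Subgroup.index]
    exact orderOf_dvd_natCard _
  have h3 : (p ^ n).Coprime K.index := Nat.Coprime.pow_left _ ((Nat.Prime.coprime_iff_not_dvd hp).mpr hK)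
  have h4 : orderOf (QuotientGroup.mk' K y) = 1 := Nat.dvd_one.mp (h3 ▸ Nat.dvd_gcd h1 h2)
  rw [orderOf_eq_one_iff, QuotientGroup.mk'_apply, QuotientGroup.eq_one_iff] at h4
  exact h4

/-- the complement of `l2_ext` -/
theorem card_compl {Y : Type*} [Group Y] [Finite Y] {K A : Subgroup Y} [K.Normal] (h1 : A ⊓ K = ⊥) (h2 : A ⊔ K = ⊤) :
    Nat.card A = K.index ∧ (IsCyclic A → IsCyclic (Y ⧸ K)) := by
  have h3 : Function.Injective ((QuotientGroup.mk' K).comp A.subtype) := by
    rw [injective_iff_map_eq_one]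
    intro a ha
    have h4 : (a : Y) ∈ K := (QuotientGroup.eq_one_iff _).mp ha
    have h5 : (a : Y) ∈ A ⊓ K := ⟨a.2, h4⟩
    rw [h1, mem_bot] at h5
    exact Subtype.ext h5
  have h4 : Function.Surjective ((QuotientGroup.mk' K).comp A.subtype) := by
    intro y
    obtain ⟨y, rfl⟩ := QuotientGroup.mk'_surjective K y
    have h5 : y ∈ A ⊔ K := by rw [h2]; exact mem_top y
    rw [mem_sup_of_normal_right] at h5
    obtain ⟨a, ha, k, hk, rfl⟩ := h5
    refine ⟨⟨a, ha⟩, ?_⟩
    rw [map_mul]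
    have : QuotientGroup.mk' K k = 1 := (QuotientGroup.eq_one_iff _).mpr hk
    rw [this, mul_one]
    rfl
  refine ⟨?_, fun hA => isCyclic_of_surjective _ h4⟩
  rw [Subgroup.index]
  exact Nat.card_congr (Equiv.ofBijective _ ⟨h3, h4⟩)

/-- `Y / K` is cyclic -/
theorem isCyclic_quotient {Y : Type u} [Group Y] [Finite Y] {K : Subgroup Y} [K.Normal] (h : IsK K)
    (hc : centralizer (K : Set Y) = ⊥) (hodd : Odd K.index) : IsCyclic (Y ⧸ K) := by
  rcases h with ⟨s, f, h⟩ | ⟨m, h⟩
  · obtain ⟨A, hA, hi, hs, -⟩ := l2_ext h hc hodd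
    exact (card_compl hi hs).2 hA
  · exact (ree_ext h hc hodd).1

theorem isSolvable_of_isCyclic {G : Type*} [Group G] [h : IsCyclic G] : Group.IsSolvable G := by
  have : IsMulCommutative G := inferInstance
  exact Group.isSolvable_of_comm fun a b => this.is_comm.comm a b

theorem isSolvable_inf_ker {m : ℕ} {σ : Fin 5 → ℕ} {X Y : Type u} [Group X] [Group Y] {f : X →* Y} (h : M0 m σ f)
    (D : Subgroup X) : Group.IsSolvable (D ⊓ f.ker : Subgroup X) := by
  have := h.solv
  exact Group.isSolvable_of_isSolvable_injective (f := Subgroup.inclusion (inf_le_right : D ⊓ f.ker ≤ f.ker))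
    (Subgroup.inclusion_injective _)

/-- local subgroups of the components -/
theorem isSolvable_normalizer_isK {L : Type u} [Group L] [Finite L] (h : IsK L) {p : ℕ} (hp : p.Prime) (hp2 : p ≠ 2)
    {T : Subgroup L} (hT : IsPGroup p T) (hT1 : T ≠ ⊥) : Group.IsSolvable (normalizer (T : Set L)) := by
  rcases h with ⟨s, f, h⟩ | ⟨m, h⟩
  · exact h.isSolvable_normalizer hp hp2 hT hT1
  · exact h.isSolvable_normalizer hp hp2 hT hT1

end Cfsg.Agent.H333.S3530
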