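import Cfsg.Agent.H333.S3530.Fix
import Cfsg.Agent.H333.S3530.Quo

/-!
# S3530: `M1.c4` (helper333)
-/

set_option autoImplicit false
set_option linter.unusedSectionVars false

namespace Cfsg.Agent.H333.S3530

open Subgroup
open scoped Pointwise
open Cfsg.Agent.H389.JSq (Has)
open Cfsg.Agent.H389.RSq
open Cfsg.Agent.H381.Tools
open Cfsg.Agent.H333.S3530.Fix

universe u

theorem four_le {L : Type u} [Group L] {s e : ℕ} (h : IsL2 s e L) : 4 ≤ s ^ e := by
  rcases h.type with ⟨rfl, h3⟩ | ⟨-, -, h3⟩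
  · exact (by norm_num : 4 ≤ 2 ^ 3).trans (Nat.pow_le_pow_right (by norm_num) h3)
  · omega

theorem dvd_three {L : Type u} [Group L] [Finite L] {s e : ℕ} (h : H389.RSq.IsPSL s e L) {p : ℕ} (hd : p ∣ Nat.card L) :
    p ∣ s ^ e * (s ^ e - 1) * (s ^ e + 1) := by
  obtain ⟨d, h1, -, -, -⟩ := card_eq h
  rw [← h1]
  exact hd.mul_left d

theorem common_two {Y : Type u} [Group Y] [Finite Y] {K : Subgroup Y} [K.Normal] {s e : ℕ}
    (hK : H389.RSq.IsPSL s e K) [Fact s.Prime] (h4 : 4 ≤ s ^ e) {y z : Y} {q : ℕ} (hq : q.Prime) (hq2 : q ≠ 2)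
    (hd : q ∣ s ^ e - 1) (hyz : Commute y z) (hy : Odd (orderOf y)) (hzK : z ∈ K) (hz : orderOf z = q) :
    ∃ P : Sylow s K, cj y P = P ∧ cj z P = P := by
  obtain ⟨P, Q, hPQ, hP, hQ, hR⟩ := exists_two hK h4 hq hq2 (z := (⟨z, hzK⟩ : K))
    (by rw [← Subgroup.orderOf_coe]; exact hz) hd
  have hc : ∀ R : Sylow s K, cj z R = (⟨z, hzK⟩ : K) • R := fun R => cj_coe (⟨z, hzK⟩ : K) R
  refine fix_of_two hyz hy hPQ ((hc P).trans hP) (fun R h1 => hR R ((hc R).symm.trans h1)) ((hc Q).trans hQ)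

/-- the torus of order `u + 1` normalises a Sylow subgroup -/
theorem torus_normalizer {K : Type u} [Group K] [Finite K] {s e : ℕ} (h : H389.RSq.IsPSL s e K) (h4 : 4 ≤ s ^ e)
    {r : ℕ} [Fact r.Prime] (hr2 : r ≠ 2) (hr : r ∣ s ^ e + 1) (T : Sylow r K) {n : ℕ} (hn : n ∣ s ^ e + 1)
    (hn2 : Odd n) : ∃ x ∈ normalizer ((T : Subgroup K) : Set K), orderOf x = n := by
  have hrp : r.Prime := Fact.out
  obtain ⟨d, hd, -, hd0, -⟩ := card_eq h
  obtain ⟨C, hC, hCc⟩ : ∃ C : Subgroup K, IsCyclic C ∧ Nat.card C = (s ^ e + 1) / Nat.gcd 2 (s ^ e - 1) := by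
    obtain ⟨-, F, _, _, hF, ⟨φ⟩⟩ := h
    obtain ⟨C, -, -, -, hC, hcard, -⟩ := Cfsg.Agent.ClassicalGeometry.PSLTorus.exists_psl_torus F
    rw [hF] at hcard
    let ψ : C ≃* (C.map φ.symm.toMonoidHom : Subgroup K) := φ.symm.subgroupMap C
    refine ⟨C.map φ.symm.toMonoidHom, ?_, ?_⟩
    · exact isCyclic_of_surjective ψ.toMonoidHom ψ.surjective
    · rw [← hcard]
      exact (Nat.card_congr ψ.toEquiv).symm
  have hg2 : Nat.gcd 2 (s ^ e - 1) ∣ 2 := Nat.gcd_dvd_left _ _
  have hgd : Nat.gcd 2 (s ^ e - 1) ∣ s ^ e + 1 := by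
    have h1 : s ^ e + 1 = (s ^ e - 1) + 2 := by omega
    rw [h1]
    exact dvd_add (Nat.gcd_dvd_right _ _) (Nat.gcd_dvd_left _ _)
  set γ := Nat.gcd 2 (s ^ e - 1) with hγ
  have hCg : γ * Nat.card C = s ^ e + 1 := by rw [hCc]; exact Nat.mul_div_cancel' hgd
  have hC0 : 0 < Nat.card C := Nat.card_pos
  have hidx : ¬ r ∣ C.index := by
    intro h1
    have h2 := C.card_mul_index
    rw [← h2] at hd
    have h3 : Nat.card C * (d * C.index) = Nat.card C * (s ^ e * (s ^ e - 1) * γ) := by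
      calc Nat.card C * (d * C.index) = d * (Nat.card C * C.index) := by ring
        _ = s ^ e * (s ^ e - 1) * (γ * Nat.card C) := by rw [hd, hCg]
        _ = _ := by ring
    have h5 : d * C.index = s ^ e * (s ^ e - 1) * γ := Nat.eq_of_mul_eq_mul_left hC0 h3
    have h6 : r ∣ s ^ e * (s ^ e - 1) * γ := by rw [← h5]; exact h1.mul_left d
    rcases hrp.dvd_mul.mp h6 with h7 | h7
    · rcases hrp.dvd_mul.mp h7 with h8 | h8
      · have h9 := (Nat.dvd_add_right h8).mp hr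
        exact hrp.one_lt.ne' (Nat.dvd_one.mp h9)
      · have h9 : r ∣ 2 := by
          have h10 : s ^ e + 1 = (s ^ e - 1) + 2 := by omega
          rw [h10] at hr
          exact (Nat.dvd_add_right h8).mp hr
        exact hr2 ((Nat.prime_dvd_prime_iff_eq hrp Nat.prime_two).mp h9)
    · exact hr2 ((Nat.prime_dvd_prime_iff_eq hrp Nat.prime_two).mp (h7.trans hg2))
  have hnC : n ∣ Nat.card C := by
    have h1 : n.Coprime γ := Nat.Coprime.coprime_dvd_right hg2 (Nat.coprime_two_right.mpr hn2)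
    rw [← hCg] at hn
    exact h1.dvd_of_dvd_mul_left hn
  obtain ⟨S⟩ : Nonempty (Sylow r C) := inferInstance
  have hS : IsPGroup r ((S : Subgroup C).map C.subtype) := S.isPGroup'.map _
  have hSi : ¬ r ∣ ((S : Subgroup C).map C.subtype).index := by
    rw [index_map_subtype]
    intro h4
    rcases (Nat.Prime.dvd_mul hrp).1 h4 with h5 | h5
    · exact S.not_dvd_index h5
    · exact hidx h5
  obtain ⟨g, hg⟩ := MulAction.exists_smul_eq K (hS.toSylow hSi) T
  obtain ⟨c, hc⟩ := IsCyclic.exists_ofOrder_eq_natCard (α := C)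
  obtain ⟨x, hx⟩ : Has C n := Has.of_dvd_orderOf (g := c) (by rw [hc]; exact hnC)
  refine ⟨g * x * g⁻¹, ?_, ?_⟩
  · have hcomm : ∀ a b : C, a * b = b * a := fun a b => by
      let _ := hC.commGroup
      exact mul_comm a b
    rw [← hg]
    have h6 : ∀ y : K, y ∈ ((g • hS.toSylow hSi : Sylow r K) : Subgroup K) ↔
        g⁻¹ * y * g ∈ (S : Subgroup C).map C.subtype := by
      intro y
      change y ∈ MulAut.conj g • ((S : Subgroup C).map C.subtype) ↔ _
      rw [Subgroup.mem_pointwise_smul_iff_inv_smul_mem, ← map_inv, MulAut.smul_def,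
        MulAut.conj_apply, inv_inv]
    rw [mem_normalizer_iff]
    intro y
    rw [h6, h6]
    have hz : ∀ z ∈ (S : Subgroup C).map C.subtype, (x : K) * z * (x : K)⁻¹ = z := by
      rintro _ ⟨w, -, rfl⟩
      have h7 := congrArg (fun v : C => (v : K)) (hcomm x w)
      change (x : K) * (w : K) = (w : K) * (x : K) at h7
      change (x : K) * (w : K) * (x : K)⁻¹ = w
      rw [h7, mul_inv_cancel_right]
    have h8 : g⁻¹ * (g * (x : K) * g⁻¹ * y * (g * (x : K) * g⁻¹)⁻¹) * g =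
        (x : K) * (g⁻¹ * y * g) * (x : K)⁻¹ := by group
    rw [h8]
    constructor
    · intro h9
      rw [hz _ h9]
      exact h9
    · intro h9
      have h10 : g⁻¹ * y * g = (x : K)⁻¹ * ((x : K) * (g⁻¹ * y * g) * (x : K)⁻¹) * (x : K) := by group
      rw [h10]
      have h11 := hz _ h9
      obtain ⟨w, hw, hw2⟩ := h9
      rw [← hw2]
      refine ⟨w, hw, ?_⟩
      have h7 := congrArg (fun v : C => (v : K)) (hcomm x w)
      change (x : K) * (w : K) = (w : K) * (x : K) at h7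
      change (w : K) = (x : K)⁻¹ * (w : K) * (x : K)
      rw [mul_assoc, ← h7, inv_mul_cancel_left]
  · rw [← hx, ← Subgroup.orderOf_coe]
    exact (MulAut.conj g).orderOf_eq (x : K)

end Cfsg.Agent.H333.S3530

namespace Cfsg.Agent.H389.RSq

open Subgroup
open Cfsg.Agent.H389.JSq (Has)
open Cfsg.Agent.H381.Tools
open Cfsg.Agent.H333.S3530
open Cfsg.Agent.H333.S3530.Fix

universe u

variable {m : ℕ} {σ : Fin 5 → ℕ} {X Y : Type u} [Group X] [Finite X] [Group Y] [Finite Y] {f : X →* Y}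
  {D P : Subgroup X} {E K L : Subgroup Y} {H : Set ℕ → Subgroup X}

theorem M1.c4 (h : M1 m σ f K) {s e : ℕ} (hK : IsL2 s e K) :
    ∃ i j, i ≠ j ∧ σ i ∣ s ^ e * (s ^ e - 1) ∧ σ j ∣ s ^ e * (s ^ e - 1) := by
  by_contra hno
  push Not at hno
  have := h.normal
  have hs := hK.psl.1
  have h4 : 4 ≤ s ^ e := four_le hK
  have he : e ≠ 0 := by
    rintro rfl
    rw [pow_zero] at h4
    omega
  obtain ⟨t, ht⟩ : ∃ t, ∀ i, i ≠ t → ¬ σ i ∣ s ^ e * (s ^ e - 1) := by
    by_cases h0 : ∃ t, σ t ∣ s ^ e * (s ^ e - 1)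
    · obtain ⟨t, ht⟩ := h0
      exact ⟨t, fun i hi => hno t i hi.symm ht⟩
    · push Not at h0
      exact ⟨0, fun i _ => h0 i⟩
  obtain ⟨l, hlL, hlt⟩ : ∃ l ∈ Lam σ K, l ≠ t := Finset.exists_mem_ne (by have := h.lam; omega) t
  have hl : σ l ∣ Nat.card K := by
    unfold Lam at hlL
    exact (Finset.mem_filter.mp hlL).2
  have hdvd : ∀ i, i ≠ t → σ i ∣ Nat.card K → σ i ∣ s ^ e + 1 := by
    intro i hi hiK
    rcases (h.sig.prime i).dvd_mul.mp (dvd_three hK.psl hiK) with h1 | h1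
    · exact absurd h1 (ht i hi)
    · exact h1
  have : Fact (σ l).Prime := ⟨h.sig.prime l⟩
  obtain ⟨T⟩ : Nonempty (Sylow (σ l) K) := inferInstance
  have hT1 : (T : Subgroup K) ≠ ⊥ := T.ne_bot_of_dvd_card hl
  have hcyc := isCyclic_quotient h.isK h.cent h.index
  have hsol := Fix.isSolvable_comap h.toM0 isSolvable_of_isCyclic T
    (hK.isSolvable_normalizer (h.sig.prime l) (h.sig.ne_two l) T.isPGroup' hT1)
  set N : Subgroup X := (normalizer (((T : Subgroup K).map K.subtype : Subgroup Y) : Set Y)).comap f with hN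
  have hidx : ∀ j, j ≠ t → ¬ σ j ∣ (normalizer ((T : Subgroup K) : Set K)).index := fun j hj =>
    hK.not_dvd_index (h.sig.ne_two l) (hdvd l hlt hl) (h.sig.prime j) (h.sig.ne_two j)
      (fun h0 => ht j hj (by rw [h0]; exact (dvd_pow_self s he).mul_right _))
      (fun h0 => ht j hj (h0.mul_left _)) T
  have key0 : ∀ i j, j ≠ t → i ≠ j → ¬ σ i ∣ Nat.card K → Has N (σ i * σ j) := by
    intro i j hj hij hiK
    exact Fix.has_comap h.surj T (h.sig.prime i) (h.sig.prime j) (h.sig.ne hij) (h.k5 i j hij) hiK (hidx j hj)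
  refine (h.cl.subgroup N).solv4 h.sig hsol (t := t) ?_
  intro i j hi hj hij
  by_cases hiK : σ i ∣ Nat.card K
  · by_cases hjK : σ j ∣ Nat.card K
    · have hn : σ i * σ j ∣ s ^ e + 1 := (h.sig.coprime hij).mul_dvd_of_dvd_of_dvd (hdvd i hi hiK) (hdvd j hj hjK)
      have ho : Odd (σ i * σ j) := ((h.sig.prime i).odd_of_ne_two (h.sig.ne_two i)).mul
        ((h.sig.prime j).odd_of_ne_two (h.sig.ne_two j))
      obtain ⟨x, hx, hxo⟩ := torus_normalizer hK.psl h4 (h.sig.ne_two l) (hdvd l hlt hl) T hn ho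
      apply Fix.has_comap_of_has h.surj
      refine ⟨⟨(x : Y), ?_⟩, ?_⟩
      · have h1 : x ∈ (normalizer (((T : Subgroup K).map K.subtype : Subgroup Y) : Set Y)).subgroupOf K := by
          rw [subgroupOf_normalizer_eq (Fix.sub_le T)]
          have h2 : ((T : Subgroup K).map K.subtype).subgroupOf K = (T : Subgroup K) :=
            comap_map_eq_self_of_injective K.subtype_injective _
          rw [h2]
          exact hx
        exact mem_subgroupOf.mp h1
      · rw [← Subgroup.orderOf_coe]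
        show orderOf (x : Y) = _
        rw [Subgroup.orderOf_coe]
        exact hxo
    · rw [mul_comm]
      exact key0 j i hi hij.symm hjK
  · exact key0 i j hj hij hiK

end Cfsg.Agent.H389.RSq
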