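import Cfsg.Agent.H389.R.Pivot

/-!
# S3530: auxiliary lemmas on cyclic Sylow subgroups and solvable preimages (helper333)
-/

set_option autoImplicit false
set_option linter.unusedSectionVars false

namespace Cfsg.Agent.H333.S3530

open Subgroup
open Cfsg.Agent.H389.JSq (Has)
open Cfsg.Agent.H389.RSq
open Cfsg.Agent.H381.Tools
open Cfsg.Agent.OddOrderLocal.HallPi

universe u

/-- the elements of prime order of a cyclic group -/
theorem mem_zpowers_of_cyclic {G : Type*} [Group G] [Finite G] [IsCyclic G] {p : ℕ} (hp : p.Prime) {x y : G}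
    (hx : orderOf x = p) (hy : orderOf y = p) : y ∈ zpowers x := by
  classical
  have : Fintype G := Fintype.ofFinite G
  have h1 : (Finset.univ.filter fun a : G => a ^ p = 1).card ≤ p := IsCyclic.card_pow_eq_one_le hp.pos
  have h2 : (zpowers x : Set G).toFinset ⊆ Finset.univ.filter fun a : G => a ^ p = 1 := by
    intro a ha
    rw [Set.mem_toFinset, SetLike.mem_coe] at ha
    obtain ⟨k, rfl⟩ := mem_zpowers_iff.mp ha
    rw [Finset.mem_filter]
    refine ⟨Finset.mem_univ _, ?_⟩
    rw [← zpow_natCast, zpow_comm, zpow_natCast, ← hx, pow_orderOf_eq_one, one_zpow]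
  have h3 : (zpowers x : Set G).toFinset.card = p := by
    rw [Set.toFinset_card, ← Nat.card_eq_fintype_card]
    exact (Nat.card_zpowers x).trans hx
  have h4 := Finset.eq_of_subset_of_card_le h2 (by rw [h3]; exact h1)
  have h5 : y ∈ Finset.univ.filter fun a : G => a ^ p = 1 := by
    rw [Finset.mem_filter]
    exact ⟨Finset.mem_univ _, by rw [← hy]; exact pow_orderOf_eq_one y⟩
  rw [← h4, Set.mem_toFinset] at h5
  exact h5

/-- subgroups of order `p` are conjugate if all `p`-subgroups are cyclic -/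
theorem exists_conj_zpowers {X : Type*} [Group X] [Finite X] {p : ℕ} (hp : p.Prime)
    (hc : ∀ T : Subgroup X, IsPGroup p T → IsCyclic T) {x y : X} (hx : orderOf x = p) (hy : orderOf y = p) :
    ∃ g : X, g * x * g⁻¹ ∈ zpowers y := by
  have : Fact p.Prime := ⟨hp⟩
  obtain ⟨S, hS⟩ := (isPGroup_zpowers hp hx).exists_le_sylow
  obtain ⟨S', hS'⟩ := (isPGroup_zpowers hp hy).exists_le_sylow
  obtain ⟨g, hg⟩ := MulAction.exists_smul_eq X S S'
  have hxS : g * x * g⁻¹ ∈ (S' : Subgroup X) := by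
    rw [← hg]
    exact ⟨x, hS (mem_zpowers x), rfl⟩
  have hyS : y ∈ (S' : Subgroup X) := hS' (mem_zpowers y)
  have hcyc : IsCyclic (S' : Subgroup X) := hc _ S'.isPGroup'
  have h1 : orderOf (⟨g * x * g⁻¹, hxS⟩ : (S' : Subgroup X)) = p := by
    rw [← Subgroup.orderOf_coe]
    exact ((MulAut.conj g).orderOf_eq x).trans hx
  have h2 : orderOf (⟨y, hyS⟩ : (S' : Subgroup X)) = p := by
    rw [← Subgroup.orderOf_coe]; exact hy
  obtain ⟨k, hk⟩ := mem_zpowers_iff.mp (mem_zpowers_of_cyclic hp h2 h1)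
  exact ⟨g, mem_zpowers_iff.mpr ⟨k, congrArg Subtype.val hk⟩⟩

/-- if all `σ j`-subgroups are cyclic, the centralizer of an element of order `σ j` is divisible by the other `σ i` -/
theorem dvd_cent {X : Type*} [Group X] [Finite X] {σ : Fin 5 → ℕ} (hp : ∀ i, (σ i).Prime) (k5 : K5 σ X) {j : Fin 5}
    (hc : ∀ T : Subgroup X, IsPGroup (σ j) T → IsCyclic T) {x : X} (hx : orderOf x = σ j) {i : Fin 5}
    (hij : i ≠ j) : σ i ∣ Nat.card (centralizer ({x} : Set X)) := by
  obtain ⟨a, b, hab, ha, hb⟩ := has_pair (hp j) (hp i) (k5 j i hij.symm)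
  obtain ⟨g, hg⟩ := exists_conj_zpowers (hp j) hc ha hx
  have h1 : orderOf (g * a * g⁻¹) = σ j := ((MulAut.conj g).orderOf_eq a).trans ha
  have h2 := zpowers_eq_of_mem hx h1 hg
  have h3 : Commute (g * a * g⁻¹) (g * b * g⁻¹) := by
    change g * a * g⁻¹ * (g * b * g⁻¹) = g * b * g⁻¹ * (g * a * g⁻¹)
    calc g * a * g⁻¹ * (g * b * g⁻¹) = g * (a * b) * g⁻¹ := by group
      _ = g * (b * a) * g⁻¹ := by rw [hab.eq]
      _ = _ := by group
  obtain ⟨k, hk⟩ := mem_zpowers_iff.mp h2
  have h4 : Commute x (g * b * g⁻¹) := by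
    rw [← hk]; exact h3.zpow_left k
  exact dvd_card_of_mem (mem_cent_iff.mpr h4) (((MulAut.conj g).orderOf_eq b).trans hb)

/-- a group with solvable kernel and solvable image -/
theorem isSolvable_of_map {X Y : Type*} [Group X] [Group Y] {f : X →* Y} {D : Subgroup X}
    (h1 : Group.IsSolvable (D ⊓ f.ker : Subgroup X)) (h2 : Group.IsSolvable (D.map f)) : Group.IsSolvable D := by
  refine Group.isSolvable_of_ker_le_range (Subgroup.inclusion (inf_le_left : D ⊓ f.ker ≤ D)) (f.subgroupMap D) ?_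
  rintro ⟨x, hx⟩ hk
  rw [MonoidHom.mem_ker] at hk
  exact ⟨⟨x, hx, congrArg Subtype.val hk⟩, rfl⟩

/-- a group with solvable intersection with `K` and solvable image modulo `K` -/
theorem isSolvable_of_inf {Y : Type*} [Group Y] {K D : Subgroup Y} [K.Normal]
    (h1 : Group.IsSolvable (D ⊓ K : Subgroup Y)) (h2 : Group.IsSolvable (Y ⧸ K)) : Group.IsSolvable D := by
  have h3 : Group.IsSolvable (D ⊓ (QuotientGroup.mk' K).ker : Subgroup Y) := by
    rw [QuotientGroup.ker_mk']; exact h1
  exact isSolvable_of_map h3 inferInstance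

/-- the order of a subgroup and its image -/
theorem card_eq_mul {X Y : Type*} [Group X] [Group Y] [Finite X] (f : X →* Y) (D : Subgroup X) :
    Nat.card D = Nat.card (D ⊓ f.ker : Subgroup X) * Nat.card (D.map f) := by
  have h1 : (f.comp D.subtype).range = D.map f := by
    ext y; constructor
    · rintro ⟨x, rfl⟩; exact ⟨x, x.2, rfl⟩
    · rintro ⟨x, hx, rfl⟩; exact ⟨⟨x, hx⟩, rfl⟩
  have h2 : (f.comp D.subtype).ker.map D.subtype = D ⊓ f.ker := by
    ext z
    constructor
    · rintro ⟨w, hw, rfl⟩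
      exact ⟨w.2, hw⟩
    · rintro ⟨hz, hzk⟩
      exact ⟨⟨z, hz⟩, hzk, rfl⟩
  have h3 := (f.comp D.subtype).ker.card_mul_index
  rw [index_ker, h1, Nat.card_congr ((f.comp D.subtype).ker.equivMapOfInjective _ D.subtype_injective).toEquiv,
    h2] at h3
  exact h3.symm

end Cfsg.Agent.H333.S3530
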