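import Cfsg.Agent.H333.S3530.Pt
import Cfsg.Agent.H295.S3530.Vm

/-!
# S3530: the action on the Sylow subgroups of a normal subgroup (helper333)
-/

set_option autoImplicit false
set_option linter.unusedSectionVars false

namespace Cfsg.Agent.H333.S3530.Fix

open Subgroup
open scoped Pointwise
open Cfsg.Agent.H389.JSq (Has)
open Cfsg.Agent.H389.RSq
open Cfsg.Agent.H389.RSq.Vis748

universe u

variable {X Y : Type u} [Group X] [Finite X] [Group Y] [Finite Y] {f : X →* Y} {K : Subgroup Y} [K.Normal] {r : ℕ}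

/-- conjugation by `y` on the Sylow subgroups of `K` -/
noncomputable def cj (y : Y) (P : Sylow r K) : Sylow r K := (MulAut.conjNormal y : MulAut K) • P

theorem cj_mul (x y : Y) (P : Sylow r K) : cj (x * y) P = cj x (cj y P) := by
  unfold cj
  rw [map_mul, mul_smul]

theorem cj_one (P : Sylow r K) : cj (1 : Y) P = P := by
  unfold cj
  rw [map_one, one_smul]

theorem cj_coe (k : K) (P : Sylow r K) : cj (k : Y) P = k • P := by
  unfold cj
  rw [MulAut.conjNormal_val]
  rfl

theorem mem_cj (y : Y) (P : Sylow r K) (x : K) (hx : x ∈ (P : Subgroup K)) :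
    (MulAut.conjNormal y : MulAut K) x ∈ (cj y P : Subgroup K) := by
  unfold cj
  rw [Sylow.pointwise_smul_def]
  exact Subgroup.smul_mem_pointwise_smul x _ _ hx

theorem cj_eq_iff (y : Y) (P : Sylow r K) :
    cj y P = P ↔ y ∈ normalizer (((P : Subgroup K).map K.subtype : Subgroup Y) : Set Y) := by
  constructor
  · intro h
    refine mem_normalizer_fintype ?_
    rintro _ ⟨p, hp, rfl⟩
    refine ⟨(MulAut.conjNormal y : MulAut K) p, ?_, ?_⟩
    · have h1 := mem_cj y P p hp
      rw [h] at h1
      exact h1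
    · exact MulAut.conjNormal_apply y p
  · intro h
    have hle : (cj y P : Subgroup K) ≤ (P : Subgroup K) := by
      intro x hx
      have hx2 : x ∈ (MulAut.conjNormal y : MulAut K) • (P : Subgroup K) := by
        have h3 := hx
        unfold cj at h3
        rwa [Sylow.pointwise_smul_def] at h3
      obtain ⟨p, hp, rfl⟩ := hx2
      have h1 : (p : Y) ∈ (P : Subgroup K).map K.subtype := ⟨p, hp, rfl⟩
      have h2 := (mem_normalizer_iff.mp h _).mp h1
      obtain ⟨p', hp', hpp⟩ := h2
      have h3 : (MulAut.conjNormal y : MulAut K) p = p' := by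
        apply Subtype.ext
        rw [MulAut.conjNormal_apply]
        exact hpp.symm
      have h4 : (MulAut.conjNormal y : MulAut K) p ∈ (P : Subgroup K) := by
        rw [h3]; exact hp'
      exact h4
    exact Sylow.ext ((cj y P).is_maximal' P.isPGroup' hle).symm

theorem cj_pow {y : Y} {P : Sylow r K} (h : cj y P = P) (n : ℕ) : cj (y ^ n) P = P := by
  rw [cj_eq_iff] at h ⊢
  exact pow_mem h n

/-- transport of a common fixed point -/
theorem has_of_common (hf : Function.Surjective f) [Fact r.Prime] (P0 : Sylow r K) {p q : ℕ} (hp : p.Prime)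
    (hq : q.Prime) (hpq : p ≠ q) {a b : X} (hab : Commute a b) (ha : orderOf a = p) (hb : orderOf b = q)
    {P : Sylow r K} (h1 : cj (f a) P = P) (h2 : cj (f b) P = P) :
    Has ((normalizer (((P0 : Subgroup K).map K.subtype : Subgroup Y) : Set Y)).comap f) (p * q) := by
  obtain ⟨k, hk⟩ := MulAction.exists_smul_eq K P P0
  obtain ⟨x, hx⟩ := hf (k : Y)
  have hk' : cj (k : Y) P = P0 := by rw [cj_coe]; exact hk
  have hki : cj ((k : Y)⁻¹) P0 = P := by
    rw [← hk', ← cj_mul, inv_mul_cancel, cj_one]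
  have key : ∀ c : X, cj (f c) P = P →
      x * c * x⁻¹ ∈ (normalizer (((P0 : Subgroup K).map K.subtype : Subgroup Y) : Set Y)).comap f := by
    intro c hc
    rw [mem_comap, ← cj_eq_iff, map_mul, map_mul, map_inv, hx, cj_mul, cj_mul, hki, hc, hk']
  refine Has.of_commute (x := (⟨_, key a h1⟩ :
      (normalizer (((P0 : Subgroup K).map K.subtype : Subgroup Y) : Set Y)).comap f))
    (y := (⟨_, key b h2⟩ : (normalizer (((P0 : Subgroup K).map K.subtype : Subgroup Y) : Set Y)).comap f))
    ?_ ?_ ?_ ((Nat.coprime_primes hp hq).2 hpq)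
  · apply Subtype.ext
    change x * a * x⁻¹ * (x * b * x⁻¹) = x * b * x⁻¹ * (x * a * x⁻¹)
    have h3 := hab.eq
    calc x * a * x⁻¹ * (x * b * x⁻¹) = x * (a * b) * x⁻¹ := by group
      _ = x * (b * a) * x⁻¹ := by rw [h3]
      _ = x * b * x⁻¹ * (x * a * x⁻¹) := by group
  · rw [← Subgroup.orderOf_coe]
    change orderOf (x * a * x⁻¹) = p
    rw [← ha]
    exact (MulAut.conj x).orderOf_eq a
  · rw [← Subgroup.orderOf_coe]
    change orderOf (x * b * x⁻¹) = q
    rw [← hb]
    exact (MulAut.conj x).orderOf_eq b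

/-- the preimage of a normalizer -/
theorem has_comap_of_has (hf : Function.Surjective f) {N : Subgroup Y} {n : ℕ} (h : Has N n) : Has (N.comap f) n :=
  h.of_surjective (f.subgroupComap N) (f.subgroupComap_surjective_of_surjective N hf)

/-- the same in the quotient -/
theorem has_of_common' (hf : Function.Surjective f) [Fact r.Prime] (P0 : Sylow r K) {p q : ℕ} (hp : p.Prime)
    (hq : q.Prime) (hpq : p ≠ q) {y z : Y} (hyz : Commute y z) (hy : orderOf y = p) (hz : orderOf z = q)
    {P : Sylow r K} (h1 : cj y P = P) (h2 : cj z P = P) :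
    Has ((normalizer (((P0 : Subgroup K).map K.subtype : Subgroup Y) : Set Y)).comap f) (p * q) := by
  have h3 := has_of_common (f := MonoidHom.id Y) Function.surjective_id P0 hp hq hpq hyz hy hz h1 h2
  exact has_comap_of_has hf h3

/-- a nontrivial element of order `r` of `K`, TI Sylow subgroups -/
theorem fix_of_mem [Fact r.Prime] (hTI : ∀ (P Q : Sylow r K) (x : K), x ≠ 1 → x ∈ (P : Subgroup K) →
    x ∈ (Q : Subgroup K) → P = Q) {y z : Y} (hyz : Commute y z) (hyK : y ∈ K) (hy : orderOf y = r) :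
    ∃ P : Sylow r K, cj y P = P ∧ cj z P = P := by
  have hr : r.Prime := Fact.out
  have hy' : orderOf (⟨y, hyK⟩ : K) = r := by rw [← Subgroup.orderOf_coe]; exact hy
  have hp : IsPGroup r (zpowers (⟨y, hyK⟩ : K)) := IsPGroup.of_card (n := 1) (by
    rw [Nat.card_zpowers, hy', pow_one])
  obtain ⟨P, hP⟩ := hp.exists_le_sylow
  have hyP : (⟨y, hyK⟩ : K) ∈ (P : Subgroup K) := hP (mem_zpowers _)
  have hy1 : (⟨y, hyK⟩ : K) ≠ 1 := by
    intro h0
    rw [h0, orderOf_one] at hy'
    exact hr.one_lt.ne hy'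
  refine ⟨P, ?_, ?_⟩
  · rw [cj_eq_iff]
    exact le_normalizer ⟨_, hyP, rfl⟩
  · have h1 := mem_cj z P _ hyP
    have h2 : (MulAut.conjNormal z : MulAut K) ⟨y, hyK⟩ = ⟨y, hyK⟩ := by
      apply Subtype.ext
      rw [MulAut.conjNormal_apply]
      show z * y * z⁻¹ = y
      rw [← hyz.eq, mul_inv_cancel_right]
    rw [h2] at h1
    exact hTI _ _ _ hy1 h1 hyP

/-- an element of `K` with exactly two fixed points and an element of odd order -/
theorem fix_of_two {y z : Y} (hyz : Commute y z) (hy : Odd (orderOf y)) {P Q : Sylow r K} (hPQ : P ≠ Q)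
    (hP : cj z P = P) (hR : ∀ R : Sylow r K, cj z R = R → R = P ∨ R = Q) (hQ : cj z Q = Q) :
    ∃ P : Sylow r K, cj y P = P ∧ cj z P = P := by
  have hfix : ∀ R : Sylow r K, cj z R = R → cj z (cj y R) = cj y R := by
    intro R hR1
    rw [← cj_mul, ← hyz.eq, cj_mul, hR1]
  refine ⟨P, ?_, hP⟩
  rcases hR _ (hfix P hP) with h1 | h1
  · exact h1
  · exfalso
    have h2 : cj y Q = P := by
      rcases hR _ (hfix Q hQ) with h2 | h2
      · exact h2
      · exfalso
        apply hPQ
        have h3 : cj y⁻¹ (cj y P) = cj y⁻¹ (cj y Q) := by rw [h1, h2]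
        rwa [← cj_mul, ← cj_mul, inv_mul_cancel, cj_one, cj_one] at h3
    have h3 : cj (y ^ 2) P = P := by rw [pow_two, cj_mul, h1, h2]
    obtain ⟨k, hk⟩ := hy
    have h4 : (y ^ 2) ^ (k + 1) = y := by
      rw [← pow_mul]
      have h5 : 2 * (k + 1) = orderOf y + 1 := by omega
      rw [h5, pow_succ, pow_orderOf_eq_one, one_mul]
    have h5 := cj_pow h3 (k + 1)
    rw [h4, h1] at h5
    exact hPQ h5.symm

/-- a fixed point of an element of prime order -/
theorem fix_of_coprime {z : Y} {q : ℕ} (hq : q.Prime) (hz : z ^ q = 1) (h : ¬ q ∣ Nat.card (Sylow r K)) :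
    ∃ P : Sylow r K, cj z P = P := by
  have := Fact.mk hq
  let act : MulAction (zpowers z) (Sylow r K) :=
    MulAction.compHom _ ((MulAut.conjNormal : Y →* MulAut K).comp (zpowers z).subtype)
  have hZ : IsPGroup q (zpowers z) := by
    rintro ⟨_, i, rfl⟩
    refine ⟨1, Subtype.ext ?_⟩
    change (z ^ i) ^ (q ^ 1) = 1
    rw [pow_one, ← zpow_natCast, ← zpow_mul, mul_comm, zpow_mul, zpow_natCast, hz, one_zpow]
  obtain ⟨P, hP⟩ := hZ.nonempty_fixed_point_of_prime_not_dvd_card (Sylow r K) h
  exact ⟨P, hP ⟨z, mem_zpowers z⟩⟩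

theorem sub_le (T : Sylow r K) : (T : Subgroup K).map K.subtype ≤ K := by
  rintro _ ⟨t, -, rfl⟩
  exact t.2

theorem frattini [Fact r.Prime] (T : Sylow r K) (g : Y) : ∃ k ∈ K,
    ((T : Subgroup K).map K.subtype).map (MulAut.conj g).toMonoidHom =
      ((T : Subgroup K).map K.subtype).map (MulAut.conj k).toMonoidHom := by
  have h1 : g ∈ K ⊔ normalizer ((T : Subgroup K).map K.subtype : Set Y) := by
    rw [sup_comm]
    have h2 := Sylow.normalizer_sup_eq_top T
    rw [h2]
    exact mem_top g
  obtain ⟨k, hk, n, hn, rfl⟩ := mem_sup_of_normal_left.1 h1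
  refine ⟨k, hk, ?_⟩
  rw [← map_map', map_of_mem_normalizer hn]

theorem relIndex_eq (T : Sylow r K) :
    (K ⊓ normalizer (((T : Subgroup K).map K.subtype : Subgroup Y) : Set Y)).relIndex K =
      (normalizer ((T : Subgroup K) : Set K)).index := by
  rw [inf_comm, inf_relIndex_right, Subgroup.relIndex, subgroupOf_normalizer_eq (sub_le T)]
  have h1 : ((T : Subgroup K).map K.subtype).subgroupOf K = (T : Subgroup K) :=
    comap_map_eq_self_of_injective K.subtype_injective _
  rw [h1]

/-- an element of order `p * q` in the preimage of the normalizer, `p` prime to `|K|` -/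
theorem has_comap [Fact r.Prime] (hf : Function.Surjective f) (T : Sylow r K) {p q : ℕ} (hp : p.Prime)
    (hq : q.Prime) (hpq : p ≠ q) (hX : Has X (p * q)) (hpK : ¬ p ∣ Nat.card K)
    (hqT : ¬ q ∣ (normalizer ((T : Subgroup K) : Set K)).index) :
    Has ((normalizer (((T : Subgroup K).map K.subtype : Subgroup Y) : Set Y)).comap f) (p * q) :=
  Vm295.has_comap hf (sub_le T) (frattini T) hp hq hpq hX hpK (by rw [relIndex_eq]; exact hqT)

/-- solvability -/
theorem isSolvable_comap {m : ℕ} {σ : Fin 5 → ℕ} (h : M0 m σ f) (hYK : Group.IsSolvable (Y ⧸ K))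
    (T : Sylow r K) (hT : Group.IsSolvable (normalizer ((T : Subgroup K) : Set K))) :
    Group.IsSolvable ((normalizer (((T : Subgroup K).map K.subtype : Subgroup Y) : Set Y)).comap f) := by
  set H : Subgroup Y := (T : Subgroup K).map K.subtype with hH
  have hNE : Group.IsSolvable ((K.subgroupOf (normalizer (H : Set Y))) : Subgroup _) := by
    have h2 : ((normalizer (H : Set Y)).subgroupOf K) = normalizer ((T : Subgroup K) : Set K) := by
      rw [hH, subgroupOf_normalizer_eq (sub_le T)]
      have h1 : ((T : Subgroup K).map K.subtype).subgroupOf K = (T : Subgroup K) :=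
        comap_map_eq_self_of_injective K.subtype_injective _
      rw [h1]
    have h3 : Group.IsSolvable ((normalizer (H : Set Y)).subgroupOf K) := by rw [h2]; exact hT
    let g : ↥(K.subgroupOf (normalizer (H : Set Y))) →* ↥((normalizer (H : Set Y)).subgroupOf K) :=
      { toFun := fun x => ⟨⟨((x : normalizer (H : Set Y)) : Y), mem_subgroupOf.1 x.2⟩,
          mem_subgroupOf.2 (x : normalizer (H : Set Y)).2⟩
        map_one' := rfl
        map_mul' := fun _ _ => rfl }
    refine Group.isSolvable_of_isSolvable_injective (f := g) ?_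
    intro x y hxy
    apply Subtype.ext
    apply Subtype.ext
    exact congrArg (fun z : ↥((normalizer (H : Set Y)).subgroupOf K) => ((z : K) : Y)) hxy
  have hN : Group.IsSolvable (normalizer (H : Set Y)) := by
    refine Group.isSolvable_of_ker_le_range (K.subgroupOf (normalizer (H : Set Y))).subtype
      ((QuotientGroup.mk' K).comp (normalizer (H : Set Y)).subtype) ?_
    intro x hx
    rw [MonoidHom.mem_ker, MonoidHom.comp_apply, QuotientGroup.mk'_apply,
      QuotientGroup.eq_one_iff] at hx
    exact ⟨⟨x, mem_subgroupOf.2 hx⟩, rfl⟩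
  have h4 := h.solv
  let g : ↥((normalizer (H : Set Y)).comap f) →* ↥(normalizer (H : Set Y)) :=
    (f.comp ((normalizer (H : Set Y)).comap f).subtype).codRestrict _ (fun x => x.2)
  have hle : f.ker ≤ (normalizer (H : Set Y)).comap f := by
    intro x hx
    rw [mem_comap, MonoidHom.mem_ker.1 hx]
    exact one_mem _
  refine Group.isSolvable_of_ker_le_range (inclusion hle) g ?_
  intro x hx
  have hx1 : f (x : X) = 1 := congrArg Subtype.val (MonoidHom.mem_ker.1 hx)
  exact ⟨⟨x, MonoidHom.mem_ker.2 hx1⟩, rfl⟩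

end Cfsg.Agent.H333.S3530.Fix
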